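import Cfsg.Agent.Spor.He8330.S.D0

set_option autoImplicit false
set_option maxRecDepth 100000000
set_option Elab.async false

namespace Cfsg.Agent.Spor.He8330.S

theorem gr4 : sub M3 (U.growI W2 [2, 3, 5, 6, 7, 5, 4, 2, 1, 2, 3, 4, 2] (Nat.shiftLeft 1 117)) = true := by decide +kernel

theorem sd6 : U.sends [3, 5, 7, 9, 11, 7, 5, 3] 0 117 = true := by decide +kernel

theorem gr7 : sub (ones 8330) (U.growI ([3, 5, 7, 9, 11, 7, 5, 3] :: W2) [0, 3, 4, 6, 7, 8, 6, 5, 3, 2, 0, 1, 3, 4, 5, 6, 7, 8, 7, 6, 5, 3, 2, 0, 1, 3, 4, 5, 6, 7, 8, 7, 6, 3] (Nat.shiftLeft 1 0)) = true := by decide +kernel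

theorem gr10 : sub M9 (U.growI W2 [1, 2, 3, 4, 5, 6, 7, 6, 5, 4, 3, 2, 1, 2, 3, 4, 5, 6] (Nat.shiftLeft 1 1)) = true := by decide +kernel

theorem sd12 : U.sends [3] 0 1 = true := by decide +kernel

theorem gr13 : sub (ones 8330) (U.growI ([3] :: W2) [0, 2, 3, 4, 5, 6, 7, 8, 7, 6, 5, 4, 3, 2, 0, 1, 2, 3, 4, 5, 6, 7, 8, 7, 6, 5, 4, 3, 2, 0, 1, 2] (Nat.shiftLeft 1 0)) = true := by decide +kernel

theorem gr16 : sub M15 (U.growI W2 [0, 2, 3, 4, 5, 6, 7, 6, 5, 4, 3, 2, 1, 2, 3, 4, 5, 6, 2] (Nat.shiftLeft 1 123)) = true := by decide +kernel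

theorem sd18 : U.sends [3, 5, 7, 11, 13, 7, 5, 3] 0 123 = true := by decide +kernel

theorem gr19 : sub (ones 8330) (U.growI ([3, 5, 7, 11, 13, 7, 5, 3] :: W2) [0, 1, 3, 4, 5, 6, 7, 8, 7, 6, 5, 4, 3, 2, 0, 0, 1, 3, 4, 5, 6, 7, 8, 7, 6, 5, 4, 3, 2, 0] (Nat.shiftLeft 1 0)) = true := by decide +kernel

theorem gr22 : sub M21 (U.growI W2 [0, 2, 3, 4, 5, 6, 7, 6, 5, 4, 3, 2, 1, 2, 3, 4, 5, 6, 7, 6] (Nat.shiftLeft 1 128)) = true := by decide +kernel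

theorem sd24 : U.sends [3, 5, 7, 13, 11, 7, 5, 3] 0 128 = true := by decide +kernel

theorem gr25 : sub (ones 8330) (U.growI ([3, 5, 7, 13, 11, 7, 5, 3] :: W2) [0, 1, 3, 4, 5, 6, 7, 8, 7, 6, 5, 4, 3, 2, 0, 0, 1, 3, 4, 5, 6, 7, 8, 7, 6, 5, 4, 3, 2, 0] (Nat.shiftLeft 1 0)) = true := by decide +kernel

theorem gr28 : sub M27 (U.growI W2 [0, 2, 3, 4, 5, 6, 7, 6, 5, 4, 3, 2, 1, 2, 3, 4, 5, 6] (Nat.shiftLeft 1 8)) = true := by decide +kernel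

theorem sd30 : U.sends [3, 5, 7, 5, 3] 0 8 = true := by decide +kernel

theorem gr31 : sub (ones 8330) (U.growI ([3, 5, 7, 5, 3] :: W2) [0, 1, 3, 4, 5, 6, 7, 8, 7, 6, 5, 4, 3, 2, 0, 1, 3, 4, 5, 6, 7, 8, 7, 6, 5, 4, 3, 2] (Nat.shiftLeft 1 0)) = true := by decide +kernel

theorem gr34 : sub M33 (U.growI W2 [0, 1, 2, 3, 4, 5, 6, 7, 6, 5, 4, 3, 2, 1, 2, 3, 4, 5, 6, 7] (Nat.shiftLeft 1 111)) = true := by decide +kernel

theorem sd36 : U.sends [3, 5, 7, 5, 11, 7, 5, 3] 0 111 = true := by decide +kernel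

theorem gr37 : sub (ones 8330) (U.growI ([3, 5, 7, 5, 11, 7, 5, 3] :: W2) [0, 1, 2, 3, 4, 5, 6, 7, 8, 7, 6, 5, 4, 3, 2, 0, 1, 2, 3, 4, 5, 6, 7, 8] (Nat.shiftLeft 1 0)) = true := by decide +kernel

theorem ff39 : U.fixFrom 14 8330 1 = true := by decide +kernel

theorem ff40 : U.fixFrom 14 8330 3 = true := by decide +kernel

theorem ff41 : U.fixFrom 14 8330 5 = true := by decide +kernel

theorem ff42 : U.fixFrom 14 8330 7 = true := by decide +kernel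

theorem ff43 : U.fixFrom 14 8330 9 = true := by decide +kernel

theorem ff44 : U.fixFrom 14 8330 11 = true := by decide +kernel

theorem ff45 : U.fixFrom 14 8330 13 = true := by decide +kernel

end Cfsg.Agent.Spor.He8330.S
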