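import Cfsg.Agent.Spor.Prim
import Cfsg.Agent.Spor.He8330.Main
import Cfsg.Agent.Spor.He8330.S.C0

set_option autoImplicit false
set_option maxRecDepth 100000000
set_option Elab.async false

namespace Cfsg.Agent.Spor.He8330.S

theorem hU : U.Ok 14 := U.ok_of 14 (show AllP (fun n => Net.okb 14 n = true) [n0, n1, n2, n3, n4, n5, n6, n7, n8, n9] from AllP.cons ok0 (AllP.cons ok1 (AllP.cons ok2 (AllP.cons ok3 (AllP.cons ok4 (AllP.cons ok5 (AllP.cons ok6 (AllP.cons ok7 (AllP.cons ok8 (AllP.cons ok9 (AllP.nil)))))))))))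

theorem hfP : ∀ j < 7, U.fP [1, 3, 5, 7, 9, 11, 13] j = fP j := by
  intro j hj
  interval_cases j <;> rfl
theorem eG : gsub 7 fP = U.lsub W1 := (gsub_congr hfP).symm.trans (lsub_eq_gsub U [1, 3, 5, 7, 9, 11, 13])
theorem upz1 : ev (atm 7 fP) [0] = U.τ 1 := pz1
theorem upz3 : ev (atm 7 fP) [2] = U.τ 3 := pz2
theorem upz5 : ev (atm 7 fP) [4] = U.τ 5 := pz3
theorem upz7 : ev (atm 7 fP) [6] = U.τ 7 := pz4
theorem upz9 : ev (atm 7 fP) [8] = U.τ 9 := pz5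
theorem upz11 : ev (atm 7 fP) [10] = U.τ 11 := pz6
theorem upz13 : ev (atm 7 fP) [12] = U.τ 13 := pz7
theorem upz15 : ev (atm 7 fP) [2, 4, 6, 10, 8, 6, 4] = U.τ 15 := pz8
theorem upz17 : ev (atm 7 fP) [2, 4, 6, 10, 8, 6, 4, 6, 8, 2, 4, 6, 4, 6, 2, 4, 6, 10, 8, 6, 4, 2] = U.τ 17 := pz10
theorem upz19 : ev (atm 7 fP) [0, 2, 0, 2] = U.τ 19 := pz12
theorem eH : wsub 7 fP BW = U.lsub W2 :=
  lsub_eq_of_all₂ (show List.Forall₂ _ [[0], [4], [6], [8], [10], [12], [2, 4, 6, 10, 8, 6, 4, 6, 8, 2, 4, 6, 4, 6, 2, 4, 6, 10, 8, 6, 4, 2], [0, 2, 0, 2]] [[1], [5], [7], [9], [11], [13], [17], [19]] from List.Forall₂.cons (upz1.trans (one_mul _).symm) (List.Forall₂.cons (upz5.trans (one_mul _).symm) (List.Forall₂.cons (upz7.trans (one_mul _).symm) (List.Forall₂.cons (upz9.trans (one_mul _).symm) (List.Forall₂.cons (upz11.trans (one_mul _).symm) (List.Forall₂.cons (upz13.trans (one_mul _).symm) (List.Forall₂.cons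 (upz17.trans (one_mul _).symm) (List.Forall₂.cons (upz19.trans (one_mul _).symm) (List.Forall₂.nil)))))))))
theorem reach5 : Reach (U.lsub W2) 117 M3 := (Reach.grow hU (Reach.base _ 117) gr4)
theorem reach8 : Reach (U.lsub ([3, 5, 7, 9, 11, 7, 5, 3] :: W2)) 0 (ones 8330) := (Reach.grow hU (Reach.base _ 0) gr7)
theorem reach11 : Reach (U.lsub W2) 1 M9 := (Reach.grow hU (Reach.base _ 1) gr10)
theorem reach14 : Reach (U.lsub ([3] :: W2)) 0 (ones 8330) := (Reach.grow hU (Reach.base _ 0) gr13)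
theorem reach17 : Reach (U.lsub W2) 123 M15 := (Reach.grow hU (Reach.base _ 123) gr16)
theorem reach20 : Reach (U.lsub ([3, 5, 7, 11, 13, 7, 5, 3] :: W2)) 0 (ones 8330) := (Reach.grow hU (Reach.base _ 0) gr19)
theorem reach23 : Reach (U.lsub W2) 128 M21 := (Reach.grow hU (Reach.base _ 128) gr22)
theorem reach26 : Reach (U.lsub ([3, 5, 7, 13, 11, 7, 5, 3] :: W2)) 0 (ones 8330) := (Reach.grow hU (Reach.base _ 0) gr25)
theorem reach29 : Reach (U.lsub W2) 8 M27 := (Reach.grow hU (Reach.base _ 8) gr28)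
theorem reach32 : Reach (U.lsub ([3, 5, 7, 5, 3] :: W2)) 0 (ones 8330) := (Reach.grow hU (Reach.base _ 0) gr31)
theorem reach35 : Reach (U.lsub W2) 111 M33 := (Reach.grow hU (Reach.base _ 111) gr34)
theorem reach38 : Reach (U.lsub ([3, 5, 7, 5, 11, 7, 5, 3] :: W2)) 0 (ones 8330) := (Reach.grow hU (Reach.base _ 0) gr37)
noncomputable def X : List SubO := [([3, 5, 7, 9, 11, 7, 5, 3], 117, M3), ([3], 1, M9), ([3, 5, 7, 11, 13, 7, 5, 3], 123, M15), ([3, 5, 7, 13, 11, 7, 5, 3], 128, M21), ([3, 5, 7, 5, 3], 8, M27), ([3, 5, 7, 5, 11, 7, 5, 3], 111, M33)]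
theorem hX : AllP (SubOk U W2 W1) X :=
  show AllP (SubOk U W2 W1) [([3, 5, 7, 9, 11, 7, 5, 3], 117, M3), ([3], 1, M9), ([3, 5, 7, 11, 13, 7, 5, 3], 123, M15), ([3, 5, 7, 13, 11, 7, 5, 3], 128, M21), ([3, 5, 7, 5, 3], 8, M27), ([3, 5, 7, 5, 11, 7, 5, 3], 111, M33)] from AllP.cons ⟨U.mem_letters (by decide), (hU.sends sd6), reach5⟩ (AllP.cons ⟨U.mem_letters (by decide), (hU.sends sd12), reach11⟩ (AllP.cons ⟨U.mem_letters (by decide), (hU.sends sd18), reach17⟩ (AllP.cons ⟨U.mem_letters (by decide), (hU.sends sd24), reach23⟩ (AllP.cons ⟨U.mem_letters (by decide), (hU.sends sd30), reach29⟩ (AllP.cons ⟨U.mem_letters (by decide), (hU.sends sd36), reach35⟩ (AllP.nil))))))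
theorem hXc : subCov 8330 X = true := by decide +kernel
theorem hY : AllP (fun x : SubO => Reach (U.lsub (x.1 :: W2)) 0 (ones 8330)) X :=
  show AllP (fun x : SubO => Reach (U.lsub (x.1 :: W2)) 0 (ones 8330)) [([3, 5, 7, 9, 11, 7, 5, 3], 117, M3), ([3], 1, M9), ([3, 5, 7, 11, 13, 7, 5, 3], 123, M15), ([3, 5, 7, 13, 11, 7, 5, 3], 128, M21), ([3, 5, 7, 5, 3], 8, M27), ([3, 5, 7, 5, 11, 7, 5, 3], 111, M33)] from AllP.cons reach8 (AllP.cons reach14 (AllP.cons reach20 (AllP.cons reach26 (AllP.cons reach32 (AllP.cons reach38 (AllP.nil))))))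
theorem hfix : gsub 7 fP ≤ FixFrom 8330 := (gsub_congr hfP).symm.le.trans (hU.gsub_fix (gs := [1, 3, 5, 7, 9, 11, 13]) (AllP.cons ff39 (AllP.cons ff40 (AllP.cons ff41 (AllP.cons ff42 (AllP.cons ff43 (AllP.cons ff44 (AllP.cons ff45 (AllP.nil)))))))))

end Cfsg.Agent.Spor.He8330.S
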